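import Mathlib

/-!
Counting pairs (binary quadratic form, binary form) over a finite field with non-zero resultant.
-/

namespace ResCountLib

open Polynomial Finset

variable {F : Type*} [Field F]

/-- The polynomial with a given coefficient vector. -/
noncomputable def poly {m : ℕ} (v : Fin m → F) : F[X] := ∑ i : Fin m, C (v i) * X ^ (i : ℕ)

theorem coeff_poly {m : ℕ} (v : Fin m → F) (j : Fin m) : (poly v).coeff (j : ℕ) = v j := by
  rw [poly, finset_sum_coeff, Finset.sum_eq_single j]
  · simp
  · intro i _ hij
    simp [Fin.val_injective.ne hij.symm]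
  · simp

theorem natDegree_poly {m : ℕ} (v : Fin (m + 1) → F) : (poly v).natDegree ≤ m :=
  natDegree_sum_le_of_forall_le _ _ fun i _ => le_trans (natDegree_C_mul_X_pow_le _ _) (Nat.le_of_lt_succ i.2)

/-- Evaluation of a binary form at a point of the projective line. -/
def ev {m : ℕ} : Option F → (Fin (m + 1) → F) →ₗ[F] F
  | none => LinearMap.proj (Fin.last m)
  | some x => ∑ i : Fin (m + 1), x ^ (i : ℕ) • LinearMap.proj i

theorem ev_some' {m : ℕ} (x : F) (v : Fin (m + 1) → F) :
    ev (some x) v = ∑ i : Fin (m + 1), x ^ (i : ℕ) * v i := by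
  unfold ev
  rw [LinearMap.sum_apply]
  rfl

theorem ev_none' {m : ℕ} (v : Fin (m + 1) → F) : ev none v = v (Fin.last m) := rfl

theorem ev_some {m : ℕ} (x : F) (v : Fin (m + 1) → F) : ev (some x) v = (poly v).eval x := by
  rw [ev_some', poly, eval_finset_sum]
  exact Finset.sum_congr rfl fun i _ => by rw [eval_mul, eval_C, eval_pow, eval_X, mul_comm]

theorem ev_none {m : ℕ} (v : Fin (m + 1) → F) : ev none v = (poly v).coeff m := by
  have := coeff_poly v (Fin.last m)
  simp only [Fin.val_last] at this
  rw [this]; rfl

theorem ev_some_single {m : ℕ} [DecidableEq F] (x : F) (i : Fin (m + 1)) (c : F) :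
    ev (some x) (Pi.single i c) = x ^ (i : ℕ) * c := by
  rw [ev_some', Finset.sum_eq_single i (fun j _ hj => by rw [Pi.single_eq_of_ne hj, mul_zero])
    (fun h => absurd (Finset.mem_univ i) h), Pi.single_eq_same]

theorem ev_none_single {m : ℕ} [DecidableEq F] (i : Fin (m + 1)) (c : F) :
    ev none (Pi.single i c) = if Fin.last m = i then c else 0 := by
  rw [ev_none', Pi.single_apply]

theorem ev_pair_surjective {m : ℕ} (hm : 1 ≤ m) {P Q : Option F} (h : P ≠ Q) :
    Function.Surjective ((ev (m := m) P).prod (ev Q)) := by
  classical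
  obtain ⟨m, rfl⟩ : ∃ k, m = k + 1 := ⟨m - 1, by omega⟩
  intro p
  cases P with
  | none =>
    cases Q with
    | none => exact absurd rfl h
    | some y =>
      refine ⟨Pi.single (Fin.last (m + 1)) p.1 + Pi.single 0 (p.2 - y ^ (m + 1) * p.1), Prod.ext ?_ ?_⟩
      · change (ev _) (_ + _) = _
        rw [map_add]
        simp only [ev_some_single, ev_none_single]
        simp [Fin.ext_iff]
      · change (ev _) (_ + _) = _
        rw [map_add]
        simp only [ev_some_single, ev_none_single]
        simp [Fin.ext_iff]
  | some x =>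
    cases Q with
    | none =>
      refine ⟨Pi.single (Fin.last (m + 1)) p.2 + Pi.single 0 (p.1 - x ^ (m + 1) * p.2), Prod.ext ?_ ?_⟩
      · change (ev _) (_ + _) = _
        rw [map_add]
        simp only [ev_some_single, ev_none_single]
        simp [Fin.ext_iff]
      · change (ev _) (_ + _) = _
        rw [map_add]
        simp only [ev_some_single, ev_none_single]
        simp [Fin.ext_iff]
    | some y =>
      have hxy : x - y ≠ 0 := sub_ne_zero.2 fun e => h (congrArg some e)
      refine ⟨Pi.single (1 : Fin (m + 2)) ((p.1 - p.2) / (x - y)) + Pi.single 0 (p.1 - x * ((p.1 - p.2) / (x - y))),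
        Prod.ext ?_ ?_⟩
      · change (ev _) (_ + _) = _
        rw [map_add]
        simp only [ev_some_single, ev_none_single]
        simp [Fin.ext_iff]
      · change (ev _) (_ + _) = _
        rw [map_add]
        simp only [ev_some_single, ev_none_single]
        simp [Fin.ext_iff]
        field_simp; ring

theorem ev_surjective {m : ℕ} (hm : 1 ≤ m) (P : Option F) : Function.Surjective (ev (m := m) P) := by
  classical
  obtain ⟨Q, hQ⟩ : ∃ Q, P ≠ Q := by
    cases P with
    | none => exact ⟨some 0, by simp⟩
    | some x => exact ⟨none, by simp⟩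
  intro x
  obtain ⟨v, hv⟩ := ev_pair_surjective hm hQ (x, 0)
  exact ⟨v, congrArg Prod.fst hv⟩

variable [Fintype F] [DecidableEq F]

/-- The size of the preimage of a set under a surjective additive map. -/
theorem card_preimage_mul {V W : Type*} [Fintype V] [Fintype W] [DecidableEq W] [AddCommGroup V] [AddCommGroup W]
    [Module F V] [Module F W] (L : V →ₗ[F] W) (hL : Function.Surjective L) (s : Finset W) :
    #{v | L v ∈ s} * Fintype.card W = Fintype.card V * #s := by
  classical
  have key : ∀ w, #{v | L v = w} = #{v | L v = 0} := fun w => by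
    obtain ⟨v₀, rfl⟩ := hL w
    refine Finset.card_bij' (fun v _ => v - v₀) (fun v _ => v + v₀) ?_ ?_ ?_ ?_ <;> intros <;> simp_all
  have h1 : ∀ t : Finset W, #{v | L v ∈ t} = #t * #{v | L v = 0} := fun t => by
    rw [Finset.card_eq_sum_card_fiberwise (s := ({v | L v ∈ t} : Finset V)) (f := L) (t := t) (fun v hv => (Finset.mem_filter.1 hv).2)]
    rw [← smul_eq_mul, ← Finset.sum_const]
    refine Finset.sum_congr rfl fun w hw => ?_
    rw [← key w]
    congr 1
    ext v
    simp only [Finset.mem_filter, Finset.mem_univ, true_and]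
    exact ⟨fun h => h.2, fun h => ⟨h ▸ hw, h⟩⟩
  have h2 := h1 Finset.univ
  simp only [Finset.mem_univ, Finset.filter_true, Finset.card_univ] at h2
  rw [h1 s, h2]; ring

/-- The rational zeros of a binary quadratic form. -/
def roots (f : Fin 3 → F) : Finset (Option F) := {P | ev (m := 2) P f = 0}

theorem mem_roots {f : Fin 3 → F} {P : Option F} : P ∈ roots f ↔ ev (m := 2) P f = 0 := by simp [roots]

theorem poly_three (f : Fin 3 → F) : poly f = C (f 0) + C (f 1) * X + C (f 2) * X ^ 2 := by
  simp [poly, Fin.sum_univ_three]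

theorem ev_two (f : Fin 3 → F) (x : F) : ev (m := 2) (some x) f = f 0 + f 1 * x + f 2 * x ^ 2 := by
  rw [ev_some, poly_three]; simp

/-- The bad set of a non-zero form `f` of degree two among forms of degree `n`. -/
theorem card_bad (n : ℕ) (hn : 2 ≤ n) (f : Fin 3 → F) (hf : f ≠ 0) :
    #{g : Fin (n + 1) → F | resultant (poly f) (poly g) 2 n = 0} * Fintype.card F ^ 2 =
      Fintype.card F ^ (n + 1) * (1 + #(roots f) * (Fintype.card F - 1)) := by
  classical
  have hq : 1 ≤ Fintype.card F := Fintype.card_pos
  -- the three shapes of the count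
  have one : ∀ (P : Option F), roots f = {P} →
      (∀ g : Fin (n + 1) → F, resultant (poly f) (poly g) 2 n = 0 ↔ ev P g = 0) →
      #{g : Fin (n + 1) → F | resultant (poly f) (poly g) 2 n = 0} * Fintype.card F ^ 2 =
        Fintype.card F ^ (n + 1) * (1 + #(roots f) * (Fintype.card F - 1)) := by
    intro P hP h
    have := card_preimage_mul (ev (m := n) P) (ev_surjective (by omega) P) {0}
    simp only [Finset.mem_singleton, Finset.card_singleton, mul_one, Fintype.card_fun, Fintype.card_fin] at this
    rw [hP, Finset.card_singleton, one_mul, Nat.add_sub_cancel' hq,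
      show ({g | resultant (poly f) (poly g) 2 n = 0} : Finset (Fin (n + 1) → F)) =
        ({g | ev P g = 0} : Finset (Fin (n + 1) → F)) from Finset.filter_congr fun g _ => h g, sq, ← mul_assoc, this]
  have two : ∀ (P Q : Option F), P ≠ Q → roots f = {P, Q} →
      (∀ g : Fin (n + 1) → F, resultant (poly f) (poly g) 2 n = 0 ↔ ev P g = 0 ∨ ev Q g = 0) →
      #{g : Fin (n + 1) → F | resultant (poly f) (poly g) 2 n = 0} * Fintype.card F ^ 2 =
        Fintype.card F ^ (n + 1) * (1 + #(roots f) * (Fintype.card F - 1)) := by
    intro P Q hPQ hr h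
    let s : Finset (F × F) := ({0} ×ˢ Finset.univ) ∪ ((Finset.univ.erase 0) ×ˢ {0})
    have hs : #s = 1 + 2 * (Fintype.card F - 1) := by
      rw [Finset.card_union_of_disjoint, Finset.card_product, Finset.card_product, Finset.card_singleton,
        Finset.card_univ, Finset.card_erase_of_mem (Finset.mem_univ _), Finset.card_univ]
      · omega
      · rw [Finset.disjoint_left]; intro p hp hp'
        simp only [Finset.mem_product, Finset.mem_singleton] at hp hp'
        exact (Finset.mem_erase.1 hp'.1).1 hp.1
    have := card_preimage_mul ((ev (m := n) P).prod (ev Q)) (ev_pair_surjective (by omega) hPQ) s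
    simp only [Fintype.card_prod, Fintype.card_fun, Fintype.card_fin, hs] at this
    rw [hr, Finset.card_pair hPQ, sq, ← this]
    congr 2
    refine Finset.filter_congr fun g _ => (h g).trans ?_
    simp [s]
    tauto
  by_cases hc : f 2 = 0
  · have hnone : (none : Option F) ∈ roots f := by rw [mem_roots]; simpa [ev] using hc
    have hF : poly f = C (f 0) + C (f 1) * X := by rw [poly_three, hc]; simp
    have hdeg : (poly f).natDegree ≤ 1 := by rw [hF]; compute_degree
    by_cases hb : f 1 = 0
    · have ha : f 0 ≠ 0 := fun ha => hf (funext fun i => by fin_cases i <;> assumption)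
      refine one none ?_ fun g => ?_
      · ext P
        cases P with
        | none => simpa using hnone
        | some x => simp [mem_roots, ev_two, hc, hb, ha]
      · rw [hF, hb, map_zero, zero_mul, add_zero, resultant_C_left, ev_none]
        simp [ha]
    · let y := - f 0 / f 1
      have hF' : poly f = C (f 1) * (X - C y) := by
        rw [hF, mul_sub, ← C_mul, show f 1 * y = - f 0 from mul_div_cancel₀ _ hb]; simp; ring
      refine two none (some y) (by simp) ?_ fun g => ?_
      · ext P
        cases P with
        | none => simpa using hnone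
        | some x =>
          simp only [mem_roots, ev_two, hc, zero_mul, add_zero, Finset.mem_insert, Finset.mem_singleton,
            reduceCtorEq, false_or, Option.some.injEq, y]
          rw [eq_div_iff hb]
          constructor <;> intro hh <;> linear_combination hh
      · rw [show (2 : ℕ) = 1 + 1 from rfl, resultant_succ_left_deg _ _ _ _ hdeg, hF', resultant_C_mul_left,
          resultant_X_sub_C_left _ _ _ (natDegree_poly g), ev_none, ev_some]
        simp [hb]
  · have hnone : (none : Option F) ∉ roots f := by rw [mem_roots]; simpa [ev] using hc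
    have hdeg : (poly f).natDegree = 2 := by
      rw [poly_three]; compute_degree!
    have hf0 : poly f ≠ 0 := fun h => by simp [h] at hdeg
    by_cases hex : ∃ x, ev (m := 2) (some x) f = 0
    · obtain ⟨x, hx⟩ := hex
      rw [ev_two] at hx
      let y := - f 1 / f 2 - x
      have hy : f 2 * (x + y) = - f 1 := by simp only [y]; field_simp; ring
      have hfac : ∀ z, f 0 + f 1 * z + f 2 * z ^ 2 = f 2 * (z - x) * (z - y) := fun z => by
        have hy' : f 1 = - (f 2 * (x + y)) := by rw [hy, neg_neg]
        rw [hy'] at hx ⊢; linear_combination hx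
      have hF : poly f = C (f 2) * ((X - C x) * (X - C y)) := by
        have h1 : f 1 = - (f 2 * (x + y)) := by rw [hy, neg_neg]
        have h0 : f 0 = f 2 * (x * y) := by have := hfac 0; linear_combination this
        rw [poly_three, h0, h1]; simp; ring
      have hres : ∀ g : Fin (n + 1) → F, resultant (poly f) (poly g) 2 n =
          f 2 ^ n * (ev (some x) g * ev (some y) g) := fun g => by
        rw [hF, resultant_C_mul_left]
        have := resultant_mul_left (X - C x) (X - C y) (poly g) n (natDegree_poly g)
        rw [natDegree_X_sub_C, natDegree_X_sub_C] at this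
        rw [this, resultant_X_sub_C_left _ _ _ (natDegree_poly g), resultant_X_sub_C_left _ _ _ (natDegree_poly g),
          ev_some, ev_some]
      have hroots : ∀ z, some z ∈ roots f ↔ z = x ∨ z = y := fun z => by
        rw [mem_roots, ev_two, hfac]; simp [hc, sub_eq_zero]
      by_cases hxy : x = y
      · refine one (some x) ?_ fun g => ?_
        · ext P
          cases P with
          | none => simpa using hnone
          | some z => simp [hroots, ← hxy]
        · rw [hres, ← hxy]; simp [hc]
      · refine two (some x) (some y) (by simpa using hxy) ?_ fun g => ?_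
        · ext P
          cases P with
          | none => simpa using hnone
          | some z => simp [hroots]
        · rw [hres]; simp [hc]
    · push Not at hex
      have hr : roots f = ∅ := by
        refine Finset.eq_empty_of_forall_notMem fun P => ?_
        cases P with
        | none => exact hnone
        | some x => rw [mem_roots]; exact hex x
      have hirr : Irreducible (poly f) := by
        rw [Polynomial.irreducible_iff_roots_eq_zero_of_degree_le_three (by omega) (by omega),
          Multiset.eq_zero_iff_forall_notMem]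
        intro x hx
        rw [Polynomial.mem_roots hf0, IsRoot.def] at hx
        exact hex x (by rw [ev_some]; exact hx)
      let F' := C (f 2)⁻¹ * poly f
      have hFm : F'.Monic := by
        rw [Monic, leadingCoeff_mul, leadingCoeff_C, leadingCoeff, hdeg,
          show (poly f).coeff 2 = f 2 from coeff_poly f 2, inv_mul_cancel₀ hc]
      have hFd : F'.natDegree = 2 := by
        simp only [F']
        rw [natDegree_C_mul (inv_ne_zero hc), hdeg]
      let L : (Fin (n + 1) → F) →ₗ[F] F × F :=
        ((lcoeff F 0).prod (lcoeff F 1)) ∘ₗ (modByMonicHom F') ∘ₗ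
          (∑ i : Fin (n + 1), (LinearMap.proj i).smulRight (X ^ (i : ℕ) : F[X]))
      have hLv : ∀ g, L g = ((poly g %ₘ F').coeff 0, (poly g %ₘ F').coeff 1) := fun g => by
        simp [L, poly, smul_eq_C_mul, modByMonicHom]
      have hL : Function.Surjective L := by
        intro p
        obtain ⟨k, rfl⟩ : ∃ k, n = k + 1 := ⟨n - 1, by omega⟩
        refine ⟨Pi.single 1 p.2 + Pi.single 0 p.1, ?_⟩
        have hp : poly (Pi.single (1 : Fin (k + 2)) p.2 + Pi.single 0 p.1) = C p.2 * X + C p.1 := by
          simp [poly, Pi.single_apply, add_mul, Finset.sum_add_distrib, apply_ite C, ite_mul]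
        rw [hLv, hp, (modByMonic_eq_self_iff hFm).2]
        · simp
        · refine lt_of_le_of_lt (degree_le_natDegree.trans (Nat.cast_le.2 (natDegree_linear_le))) ?_
          rw [degree_eq_natDegree hFm.ne_zero, hFd]; norm_num
      have h0 : ∀ g : Fin (n + 1) → F, resultant (poly f) (poly g) 2 n = 0 ↔ L g = 0 := fun g => by
        rw [hLv]
        obtain ⟨k, hk⟩ := Nat.exists_eq_add_of_le (natDegree_poly g)
        have hR : resultant (poly f) (poly g) 2 n = f 2 ^ k * resultant (poly f) (poly g) := by
          rw [show resultant (poly f) (poly g) 2 n = resultant (poly f) (poly g) 2 ((poly g).natDegree + k) by rw [← hk],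
            resultant_add_right_deg _ _ _ _ _ le_rfl, show (poly f).coeff 2 = f 2 from coeff_poly f 2]
          congr 2
          exact hdeg.symm
        have hiff : poly f ∣ poly g ↔ poly g %ₘ F' = 0 := by
          rw [modByMonic_eq_zero_iff_dvd hFm]
          exact ((Associated.dvd_iff_dvd_left (associated_unit_mul_left _ _ (isUnit_C.2 (inv_ne_zero hc).isUnit))).symm)
        rw [hR, mul_eq_zero, or_iff_right (pow_ne_zero _ hc), resultant_eq_zero_iff,
          and_iff_right (Or.inl hf0), hirr.coprime_iff_not_dvd, not_not, hiff, Prod.mk_eq_zero]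
        constructor
        · intro h; simp [h]
        · rintro ⟨e0, e1⟩
          have hd := natDegree_modByMonic_lt (poly g) hFm (fun h => by rw [h, natDegree_one] at hFd; omega)
          rw [hFd] at hd
          rw [eq_X_add_C_of_natDegree_le_one (p := poly g %ₘ F') (by omega), e0, e1]
          simp
      have := card_preimage_mul L hL {0}
      simp only [Finset.mem_singleton, Finset.card_singleton, mul_one, Fintype.card_fun, Fintype.card_fin,
        Fintype.card_prod] at this
      rw [hr, Finset.card_empty, zero_mul, add_zero, mul_one, sq,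
        show ({g | resultant (poly f) (poly g) 2 n = 0} : Finset (Fin (n + 1) → F)) = ({g | L g = 0} : Finset (Fin (n + 1) → F)) from
          Finset.filter_congr fun g _ => h0 g, this]

theorem sum_card_roots :
    ∑ f ∈ (Finset.univ.erase (0 : Fin 3 → F)), #(roots f) =
      (Fintype.card F + 1) * (Fintype.card F ^ 2 - 1) := by
  classical
  have h : ∀ f : Fin 3 → F, #(roots f) = ∑ P : Option F, if ev (m := 2) P f = 0 then 1 else 0 := fun f => by
    rw [roots, Finset.card_filter]
  simp only [h]
  rw [Finset.sum_comm]
  have hP : ∀ P : Option F, ∑ f ∈ Finset.univ.erase (0 : Fin 3 → F), (if ev (m := 2) P f = 0 then 1 else 0) =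
      Fintype.card F ^ 2 - 1 := fun P => by
    rw [← Finset.card_filter, Finset.filter_erase, Finset.card_erase_of_mem (by simp)]
    have := card_preimage_mul (ev (m := 2) P) (ev_surjective (by omega) P) {0}
    simp only [Finset.mem_singleton, Finset.card_singleton, mul_one, Fintype.card_fun, Fintype.card_fin] at this
    congr 1
    exact Nat.eq_of_mul_eq_mul_right Fintype.card_pos (this.trans (pow_succ _ _))
  rw [Finset.sum_congr rfl fun P _ => hP P, Finset.sum_const, Finset.card_univ, Fintype.card_option, smul_eq_mul]

/-- The number of pairs with non-zero resultant. -/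
theorem card_ne_zero (n : ℕ) (hn : 2 ≤ n) :
    #{p : (Fin 3 → F) × (Fin (n + 1) → F) | resultant (poly p.1) (poly p.2) 2 n ≠ 0} =
      Fintype.card F ^ (n + 4) - Fintype.card F ^ (n + 3) - Fintype.card F ^ (n + 2) + Fintype.card F ^ (n + 1) := by
  classical
  obtain ⟨a, ha⟩ : ∃ a, Fintype.card F = a + 1 := ⟨Fintype.card F - 1, by have := Fintype.card_pos (α := F); omega⟩
  set q := Fintype.card F
  have hsplit : #{p : (Fin 3 → F) × (Fin (n + 1) → F) | resultant (poly p.1) (poly p.2) 2 n = 0} =
      ∑ f : Fin 3 → F, #{g : Fin (n + 1) → F | resultant (poly f) (poly g) 2 n = 0} := by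
    rw [Finset.card_filter, Fintype.sum_prod_type]
    exact Finset.sum_congr rfl fun f _ => (Finset.card_filter _ _).symm
  have hzero : #{g : Fin (n + 1) → F | resultant (poly (0 : Fin 3 → F)) (poly g) 2 n = 0} = q ^ (n + 1) := by
    rw [Finset.filter_true_of_mem, Finset.card_univ, Fintype.card_fun, Fintype.card_fin]
    intro g _
    rw [show poly (0 : Fin 3 → F) = 0 from Finset.sum_eq_zero fun i _ => by simp, resultant_zero_left,
      zero_pow (by omega : n ≠ 0), zero_mul]
  have hB : (∑ f : Fin 3 → F, #{g : Fin (n + 1) → F | resultant (poly f) (poly g) 2 n = 0}) * q ^ 2 =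
      q ^ (n + 1) * (q ^ 2 + (q ^ 3 - 1) + (q - 1) * ((q + 1) * (q ^ 2 - 1))) := by
    rw [← Finset.add_sum_erase _ _ (Finset.mem_univ (0 : Fin 3 → F)), hzero, add_mul, Finset.sum_mul,
      Finset.sum_congr rfl fun f hf => card_bad n hn f (Finset.mem_erase.1 hf).1, ← Finset.mul_sum,
      Finset.sum_add_distrib, ← Finset.sum_mul, sum_card_roots, Finset.sum_const,
      Finset.card_erase_of_mem (Finset.mem_univ _), Finset.card_univ, Fintype.card_fun, Fintype.card_fin,
      smul_eq_mul, mul_one]
    ring
  have htot := Finset.card_filter_add_card_filter_not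
    (s := (Finset.univ : Finset ((Fin 3 → F) × (Fin (n + 1) → F))))
    (fun p => resultant (poly p.1) (poly p.2) 2 n = 0)
  rw [Finset.card_univ, Fintype.card_prod, Fintype.card_fun, Fintype.card_fun, Fintype.card_fin, Fintype.card_fin,
    hsplit] at htot
  have h2 : q ^ 2 - 1 = a * (a + 2) := by
    have : q ^ 2 = a * (a + 2) + 1 := by rw [ha]; ring
    omega
  have h3 : q ^ 3 - 1 = a * (a ^ 2 + 3 * a + 3) := by
    have : q ^ 3 = a * (a ^ 2 + 3 * a + 3) + 1 := by rw [ha]; ring
    omega
  rw [h2, h3, show q - 1 = a by omega] at hB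
  set S := ∑ f : Fin 3 → F, #{g : Fin (n + 1) → F | resultant (poly f) (poly g) 2 n = 0}
  have e4 : q ^ (n + 4) = q ^ (n + 3) + q ^ (n + 2) + q ^ (n + 1) * (q * (q * a) - q) := by
    have : q ≤ q * (q * a) := by
      rcases Nat.eq_zero_or_pos a with h | h
      · have := Fintype.one_lt_card (α := F); omega
      · exact Nat.le_mul_of_pos_right _ (Nat.mul_pos (by omega) h)
    obtain ⟨d, hd⟩ := Nat.exists_eq_add_of_le this
    rw [hd, Nat.add_sub_cancel_left]
    have : q ^ (n + 4) = q ^ (n + 1) * (q * (q * a) + q * q) := by rw [ha]; ring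
    rw [this, hd]; ring
  have e1 : q * (q * a) - q + 1 = a * (a + 2) * a + 0 + (q * (q * a) - q + 1 - a * (a + 2) * a) := by
    have : a * (a + 2) * a + q ≤ q * (q * a) + 1 := by
      rw [ha]; rcases Nat.eq_zero_or_pos a with h | h
      · subst h; simp
      · nlinarith
    omega
  rw [e4, show q ^ (n + 3) + q ^ (n + 2) + q ^ (n + 1) * (q * (q * a) - q) - q ^ (n + 3) - q ^ (n + 2) =
    q ^ (n + 1) * (q * (q * a) - q) by omega]
  refine Nat.eq_of_mul_eq_mul_right (pow_pos (by omega : 0 < q) 2) ?_
  have htot2 := congrArg (· * q ^ 2) htot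
  simp only [add_mul, hB] at htot2
  obtain ⟨d, hd⟩ : ∃ d, q * (q * a) = q + d := Nat.exists_eq_add_of_le (by
    rcases Nat.eq_zero_or_pos a with h | h
    · have := Fintype.one_lt_card (α := F); omega
    · exact Nat.le_mul_of_pos_right _ (Nat.mul_pos (by omega) h))
  rw [hd, Nat.add_sub_cancel_left]
  simp only [ne_eq] at *
  have hdz : (d : ℤ) = (q : ℤ) * ((q : ℤ) * a) - q := by
    have : ((q * (q * a) : ℕ) : ℤ) = ((q + d : ℕ) : ℤ) := by rw [hd]
    push_cast at this; linarith
  zify at htot2 ⊢
  rw [hdz]
  have hqz : (q : ℤ) = a + 1 := by exact_mod_cast ha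
  rw [hqz] at htot2 ⊢
  linear_combination htot2

/-- For odd `n` the value one is taken `q - 1` times less often than non-zero values. -/
theorem card_one_mul (n : ℕ) (hodd : Odd n) :
    #{p : (Fin 3 → F) × (Fin (n + 1) → F) | resultant (poly p.1) (poly p.2) 2 n = 1} * (Fintype.card F - 1) =
    #{p : (Fin 3 → F) × (Fin (n + 1) → F) | resultant (poly p.1) (poly p.2) 2 n ≠ 0} := by
  classical
  obtain ⟨k, rfl⟩ := hodd
  have hscale : ∀ (l m : F) (f : Fin 3 → F) (g : Fin (2 * k + 1 + 1) → F),
      resultant (poly (l • f)) (poly (m • g)) 2 (2 * k + 1) =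
        l ^ (2 * k + 1) * m ^ 2 * resultant (poly f) (poly g) 2 (2 * k + 1) := by
    intro l m f g
    have e : ∀ {j : ℕ} (c : F) (v : Fin j → F), poly (c • v) = C c * poly v := fun c v => by
      simp [poly, Finset.mul_sum, mul_assoc]
    rw [e, e, resultant_C_mul_left, resultant_C_mul_right]; ring
  rw [Finset.card_eq_sum_card_fiberwise (s := {p | resultant (poly p.1) (poly p.2) 2 (2 * k + 1) ≠ 0})
    (f := fun p : (Fin 3 → F) × (Fin (2 * k + 1 + 1) → F) => resultant (poly p.1) (poly p.2) 2 (2 * k + 1))
    (t := Finset.univ.erase 0) (fun p hp => by simpa using hp)]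
  rw [mul_comm, ← Finset.card_univ, ← Finset.card_erase_of_mem (Finset.mem_univ (0 : F)), ← smul_eq_mul,
    ← Finset.sum_const]
  refine Finset.sum_congr rfl fun t ht => ?_
  have ht0 : t ≠ 0 := (Finset.mem_erase.1 ht).1
  -- `t = l ^ n * m ^ 2` with `l = t`, `m = t⁻ᵏ`
  refine Finset.card_bij' (fun p _ => (t • p.1, (t ^ k)⁻¹ • p.2)) (fun p _ => (t⁻¹ • p.1, (t ^ k) • p.2)) ?_ ?_ ?_ ?_
  · intro p hp
    simp only [Finset.mem_filter, Finset.mem_univ, true_and] at hp ⊢
    rw [hscale, hp, mul_one, inv_pow, ← div_eq_mul_inv]
    have : t ^ (2 * k + 1) / (t ^ k) ^ 2 = t := by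
      rw [← pow_mul, mul_comm k 2, pow_succ]; field_simp
    rw [this]; exact ⟨ht0, rfl⟩
  · intro p hp
    simp only [Finset.mem_filter, Finset.mem_univ, true_and] at hp ⊢
    rw [hscale, hp.2, inv_pow, ← pow_mul, mul_comm k 2, pow_succ]; field_simp
  · intro p _; ext <;> simp [ht0]
  · intro p _; ext <;> simp [ht0]

end ResCountLib
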